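import Groth.Agent.Lib.Lead.SC.CohPsh3
import Groth.Prelude.Def_CohSite

/-! # Abelian sheaves viewed as sheaves for the trivial topology (= presheaves). -/

universe u
open CategoryTheory Limits Opposite Abelian

namespace Groth.Agent.LD.CE

section General

variable {A B B' : Type*} [Category A] [Category B] [Category B'] [Abelian A] [Abelian B]
  [Abelian B'] [HasInjectiveResolutions A]

/-- right derived functors commute with post-composition by an exact functor. -/
noncomputable def rightDerivedObjCompIso (F : A ⥤ B) [F.Additive] (E : B ⥤ B') [E.Additive]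
    [E.PreservesHomology] (X : A) (q : ℕ) :
    ((F ⋙ E).rightDerived q).obj X ≅ E.obj ((F.rightDerived q).obj X) :=
  let I := injectiveResolution X
  let L := (F.mapHomologicalComplex (ComplexShape.up ℕ)).obj I.cocomplex
  I.isoRightDerivedObj (F ⋙ E) q ≪≫
    (show (((F ⋙ E).mapHomologicalComplex _).obj I.cocomplex).homology q ≅
      ((L.sc q).map E).homology from Iso.refl _) ≪≫
    (L.sc q).mapHomologyIso E ≪≫ E.mapIso (I.isoRightDerivedObj F q).symm

end General

variable {C : Type u} [SmallCategory C] (J : GrothendieckTopology C)

/-- abelian presheaves, as sheaves for the trivial topology. -/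
abbrev PB (C : Type u) [SmallCategory C] : Type (u + 1) :=
  Sheaf (⊥ : GrothendieckTopology C) AddCommGrpCat.{u}

/-- pack a presheaf as a sheaf for the trivial topology. -/
abbrev packBot : (Cᵒᵖ ⥤ AddCommGrpCat.{u}) ⥤ PB C :=
  (sheafBotEquivalence AddCommGrpCat.{u}).inverse

/-- the forgetful functor from `J`-sheaves to sheaves for the trivial topology. -/
noncomputable def toBot : Sheaf J AddCommGrpCat.{u} ⥤ PB C :=
  sheafToPresheaf J AddCommGrpCat.{u} ⋙ packBot

instance : (packBot (C := C)).Additive where
instance : (toBot J).Additive where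

/-- the sheafification adjunction, from the trivial topology. -/
noncomputable def botAdj :
    (sheafBotEquivalence AddCommGrpCat.{u}).functor ⋙ presheafToSheaf J AddCommGrpCat.{u} ⊣
      toBot J :=
  (sheafBotEquivalence AddCommGrpCat.{u}).toAdjunction.comp
    (sheafificationAdjunction J AddCommGrpCat.{u})

lemma injective_toBot (Q : Sheaf J AddCommGrpCat.{u}) (hQ : Injective Q) :
    Injective ((toBot J).obj Q) := by
  haveI : ((sheafBotEquivalence AddCommGrpCat.{u}).functor ⋙
      presheafToSheaf J AddCommGrpCat.{u}).PreservesMonomorphisms := by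
    haveI : (presheafToSheaf J AddCommGrpCat.{u}).PreservesMonomorphisms :=
      preservesMonomorphisms_of_preservesLimitsOfShape _
    infer_instance
  exact Adjunction.map_injective (botAdj J) Q hQ

/-- `R^q` of the forgetful functor is the cohomology presheaf. -/
theorem nonempty_rightDerived_toBot_iso (F : Sheaf J AddCommGrpCat.{u}) (q : ℕ) :
    Nonempty (((toBot J).rightDerived q).obj F ≅
      packBot.obj (Sheaf.cohomologyPresheaf.{u} F q)) := by
  obtain ⟨e⟩ := SC.nonempty_rightDerived_sheafToPresheaf_iso F q
  exact ⟨rightDerivedObjCompIso (sheafToPresheaf J AddCommGrpCat.{u}) packBot F q ≪≫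
    packBot.mapIso e⟩

end Groth.Agent.LD.CE
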