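import Groth.Agent.Lib.Lead.CechExt.Bot
import Groth.Agent.Lib.Lead.GSS.HomEquivIso
import Groth.Agent.Lib.Lead.GSS.Groth

/-! # Free abelian sheaves on presheaves of sets. -/

universe u
open CategoryTheory Limits Opposite Abelian

namespace Groth.Agent.LD.CE
open Groth.Agent.LD.GSS

variable {C : Type u} [SmallCategory C] (J : GrothendieckTopology C)

/-- the free abelian sheaf on a presheaf of sets. -/
noncomputable abbrev ZR (R : Cᵒᵖ ⥤ Type u) : Sheaf J AddCommGrpCat.{u} :=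
  (presheafToSheaf J AddCommGrpCat.{u}).obj (R ⋙ AddCommGrpCat.free.{u})

variable {J}

/-- `Hom(ℤ[R]^#, F) ≃ Hom(R, F)`. -/
noncomputable def homEquivR (R : Cᵒᵖ ⥤ Type u) (F : Sheaf J AddCommGrpCat.{u}) :
    (ZR J R ⟶ F) ≃ (R ⟶ F.obj ⋙ forget AddCommGrpCat.{u}) :=
  ((sheafificationAdjunction J _).homEquiv _ _).trans
    ((Adjunction.whiskerRight _ AddCommGrpCat.adj).homEquiv _ _)

lemma homEquivR_comp (R : Cᵒᵖ ⥤ Type u) {F G : Sheaf J AddCommGrpCat.{u}} (φ : ZR J R ⟶ F)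
    (ψ : F ⟶ G) :
    homEquivR R G (φ ≫ ψ) = homEquivR R F φ ≫ Functor.whiskerRight ψ.hom (forget _) := by
  simp only [homEquivR, Equiv.trans_apply, Adjunction.homEquiv_naturality_right]
  rfl

end Groth.Agent.LD.CE

namespace Groth.Agent.LD.CE
open Groth.Agent.LD.GSS

variable {C : Type u} [SmallCategory C] (J : GrothendieckTopology C)

/-- the underlying sheaf of sets. -/
noncomputable abbrev USh : Sheaf J AddCommGrpCat.{u} ⥤ Sheaf J (Type u) :=
  sheafCompose J (forget AddCommGrpCat.{u})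

/-- maps from a presheaf of sets `R` to (the underlying presheaf of) an abelian sheaf, via the
associated sheaf. -/
noncomputable def sheafHomEquiv (R : Cᵒᵖ ⥤ Type u) (G : Sheaf J AddCommGrpCat.{u}) :
    (((presheafToSheaf J (Type u)).obj R).obj ⟶ G.obj ⋙ forget AddCommGrpCat.{u}) ≃
      ((presheafToSheaf J (Type u)).obj R ⟶ (USh J).obj G) where
  toFun φ := ObjectProperty.homMk φ
  invFun ψ := ψ.hom
  left_inv _ := rfl
  right_inv _ := rfl

noncomputable def sheafifyHomEquiv (R : Cᵒᵖ ⥤ Type u) (G : Sheaf J AddCommGrpCat.{u}) :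
    (((presheafToSheaf J (Type u)).obj R).obj ⟶ G.obj ⋙ forget AddCommGrpCat.{u}) ≃
      (R ⟶ G.obj ⋙ forget AddCommGrpCat.{u}) :=
  (sheafHomEquiv J R G).trans
    ((sheafificationAdjunction J (Type u)).homEquiv R ((USh J).obj G))

lemma sheafifyHomEquiv_comp (R : Cᵒᵖ ⥤ Type u) {G G' : Sheaf J AddCommGrpCat.{u}}
    (φ : ((presheafToSheaf J (Type u)).obj R).obj ⟶ G.obj ⋙ forget AddCommGrpCat.{u})
    (g : G ⟶ G') :
    sheafifyHomEquiv J R G' (φ ≫ Functor.whiskerRight g.hom (forget _)) =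
      sheafifyHomEquiv J R G φ ≫ Functor.whiskerRight g.hom (forget _) := by
  have := (sheafificationAdjunction J (Type u)).homEquiv_naturality_right
    (sheafHomEquiv J R G φ) ((USh J).map g)
  exact this

/-- `Hom(ℤ[aR]^#, G) ≃ Hom_{PSh}(ℤ[R], G)`. -/
noncomputable def botHomEquiv (R : Cᵒᵖ ⥤ Type u) (G : Sheaf J AddCommGrpCat.{u}) :
    (ZR J ((presheafToSheaf J (Type u)).obj R).obj ⟶ G) ≃
      (ZR (⊥ : GrothendieckTopology C) R ⟶ (toBot J).obj G) :=
  ((homEquivR _ G).trans (sheafifyHomEquiv J R G)).trans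
    (homEquivR (J := (⊥ : GrothendieckTopology C)) R ((toBot J).obj G)).symm

lemma botHomEquiv_comp (R : Cᵒᵖ ⥤ Type u) {G G' : Sheaf J AddCommGrpCat.{u}}
    (ψ : ZR J ((presheafToSheaf J (Type u)).obj R).obj ⟶ G) (g : G ⟶ G') :
    botHomEquiv J R G' (ψ ≫ g) = botHomEquiv J R G ψ ≫ (toBot J).map g := by
  apply (homEquivR (J := (⊥ : GrothendieckTopology C)) R ((toBot J).obj G')).injective
  rw [homEquivR_comp]
  simp only [botHomEquiv, Equiv.trans_apply, Equiv.apply_symm_apply]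
  rw [homEquivR_comp, sheafifyHomEquiv_comp]
  erw [Equiv.apply_symm_apply, Equiv.apply_symm_apply]
  rfl

/-- `Hom_{PSh}(ℤ[R], -) ∘ forget ≅ Hom(ℤ[aR]^#, -)`. -/
noncomputable def botHomIso (R : Cᵒᵖ ⥤ Type u) :
    toBot J ⋙ homF (ZR (⊥ : GrothendieckTopology C) R) ≅
      homF (ZR J ((presheafToSheaf J (Type u)).obj R).obj) :=
  homFIsoOfEquiv (toBot J) _ _ (botHomEquiv J R) (fun G G' ψ g => botHomEquiv_comp J R ψ g)

end Groth.Agent.LD.CE
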