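import Mathlib

/-! # `Ext¹(P, X₁) ≃ Hom(P, X₃) / im Hom(P, X₂)` for a short exact sequence with `Ext¹(P, X₂) = 0`. -/

universe w v u
open CategoryTheory Limits Opposite Abelian

namespace Groth.Agent.LD.CE

variable {A : Type u} [Category.{v} A] [Abelian A] [HasExt.{w} A]

/-- post-composition `Hom(P, X) →+ Hom(P, Y)`. -/
def postHom (P : A) {X Y : A} (g : X ⟶ Y) : (P ⟶ X) →+ (P ⟶ Y) where
  toFun φ := φ ≫ g
  map_zero' := zero_comp
  map_add' _ _ := Preadditive.add_comp _ _ _ _ _ _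

variable {S : ShortComplex A} (hS : S.ShortExact) (P : A)

/-- the connecting map `Hom(P, X₃) → Ext¹(P, X₁)`. -/
noncomputable def delta0P : (P ⟶ S.X₃) →+ Ext.{w} P S.X₁ 1 :=
  (hS.extClass.postcomp P (rfl : 0 + 1 = 1)).comp
    (Ext.addEquiv₀ (X := P) (Y := S.X₃)).symm.toAddMonoidHom

lemma delta0P_apply (φ : P ⟶ S.X₃) :
    delta0P hS P φ = (Ext.mk₀ φ).comp hS.extClass (rfl : 0 + 1 = 1) := rfl

lemma delta0P_surjective (h1 : Subsingleton (Ext.{w} P S.X₂ 1)) :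
    Function.Surjective (delta0P hS P) := by
  intro ξ
  obtain ⟨x, hx⟩ := Ext.covariant_sequence_exact₁ P hS ξ (Subsingleton.elim _ _) rfl
  refine ⟨Ext.addEquiv₀ x, ?_⟩
  rw [delta0P_apply, Ext.mk₀_addEquiv₀_apply]
  exact hx

lemma delta0P_ker : (delta0P hS P).ker = (postHom P S.g).range := by
  ext φ
  rw [AddMonoidHom.mem_ker, AddMonoidHom.mem_range]
  constructor
  · intro hφ
    obtain ⟨y, hy⟩ := Ext.covariant_sequence_exact₃ P hS (Ext.mk₀ φ) rfl hφ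
    refine ⟨Ext.addEquiv₀ y, ?_⟩
    apply (Ext.addEquiv₀ (X := P) (Y := S.X₃)).symm.injective
    change Ext.mk₀ (Ext.addEquiv₀ y ≫ S.g) = Ext.mk₀ φ
    rw [← Ext.mk₀_comp_mk₀, Ext.mk₀_addEquiv₀_apply]
    exact hy
  · rintro ⟨ψ, rfl⟩
    change (Ext.mk₀ (ψ ≫ S.g)).comp hS.extClass (rfl : 0 + 1 = 1) = 0
    rw [← Ext.mk₀_comp_mk₀, Ext.comp_assoc_of_second_deg_zero, hS.comp_extClass, Ext.comp_zero]

/-- `Ext¹(P, X₁) ≃ Hom(P, X₃) / im Hom(P, X₂)` when `Ext¹(P, X₂) = 0`. -/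
noncomputable def ext1EquivP (h1 : Subsingleton (Ext.{w} P S.X₂ 1)) :
    ((P ⟶ S.X₃) ⧸ (postHom P S.g).range) ≃+ Ext.{w} P S.X₁ 1 :=
  (QuotientAddGroup.quotientAddEquivOfEq (delta0P_ker hS P).symm).trans
    (QuotientAddGroup.quotientKerEquivOfSurjective (delta0P hS P) (delta0P_surjective hS P h1))

end Groth.Agent.LD.CE
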