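import Groth.Agent.Lib.Lead.Cech.SiteLeray
import Groth.Agent.Lib.Lead.CechExt.ExtOne

/-! # Čech cohomology as `Ext` out of an object representing `Ȟ⁰`. -/

universe u
open CategoryTheory Limits Opposite Abelian

namespace Groth.Agent.LD.CE
open Groth.Agent.LD.CH

variable {C : Type u} [SmallCategory C] {J : GrothendieckTopology C}
  {U : C} [HasFiniteProducts (Over U)] {ι : Type u} (Y : ι → Over U)
  (P : Sheaf J AddCommGrpCat.{u})
  (h0 : ∀ F : Sheaf J AddCommGrpCat.{u},
    ((K Y (resOver U F.obj)).homology 0 : AddCommGrpCat.{u}) ≃+ (P ⟶ F))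
  (h0nat : ∀ {F G : Sheaf J AddCommGrpCat.{u}} (φ : F ⟶ G)
    (z : ((K Y (resOver U F.obj)).homology 0 : AddCommGrpCat.{u})),
    h0 G (HomologicalComplex.homologyMap (cmap Y φ) 0 z) = h0 F z ≫ φ)

include h0nat

/-- degree one. -/
theorem cechExt_one (F : Sheaf J AddCommGrpCat.{u})
    (h : ∀ (n : ℕ) (a : Fin (n+1) → ι),
      Subsingleton (Ext.{u} (SC.ZU J (∏ᶜ (Y ∘ a)).left) F 1)) :
    Nonempty (((K Y (resOver U F.obj)).homology 1 : AddCommGrpCat.{u}) ≃+ Ext.{u} P F 1) := by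
  have hS := injSeqS_shortExact F
  have hsurj : ∀ (n : ℕ) (a : Fin (n+1) → ι),
      Function.Surjective ((injSeqS F).g.hom.app (op (∏ᶜ (Y ∘ a)).left)) :=
    fun n a => SC.surjective_app_of_subsingleton_ext1 hS _ (h n a)
  have hC := shortExact_cechO Y hS hsurj
  have hI : IsZero ((K Y (resOver U (injSeqS F).X₂.obj)).homology 1) :=
    isZero_cechO_of_injective Y (injSeqS F).X₂ 0
  haveI := hC.epi_δ 0 1 rfl hI
  have hex := hC.homology_exact₃ 0 1 rfl
  rw [ShortComplex.ab_exact_iff] at hex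
  have hδ : Function.Surjective (hC.δ 0 1 rfl) :=
    (AddCommGrpCat.epi_iff_surjective _).1 inferInstance
  have e := equivOfExact
    (HomologicalComplex.homologyMap ((injSeqS F).map (ΦO J Y)).g 0).hom
    (hC.δ 0 1 rfl).hom hδ (by
      ext z
      rw [AddMonoidHom.mem_ker, AddMonoidHom.mem_range]
      constructor
      · intro hz
        exact hex z hz
      · rintro ⟨w, rfl⟩
        exact ConcreteCategory.congr_hom (hC.comp_δ 0 1 rfl) w)
    (postHom P (injSeqS F).g)
    (h0 (injSeqS F).X₂) (h0 (injSeqS F).X₃)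
    (fun z => h0nat (injSeqS F).g z)
  exact ⟨e.trans (ext1EquivP hS P (subsingleton_ext_injectiveS _ _ 0))⟩

/-- degrees `≥ 1`. -/
theorem cechExt_succ (p : ℕ) : ∀ (F : Sheaf J AddCommGrpCat.{u})
    (_ : ∀ (n : ℕ) (a : Fin (n+1) → ι) (q : ℕ),
      Subsingleton (Ext.{u} (SC.ZU J (∏ᶜ (Y ∘ a)).left) F (q+1))),
    Nonempty (((K Y (resOver U F.obj)).homology (p+1) : AddCommGrpCat.{u}) ≃+
      Ext.{u} P F (p+1)) := by
  induction p with
  | zero =>
    intro F h
    exact cechExt_one Y P h0 h0nat F (fun n a => h n a 0)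
  | succ p ih =>
    intro F h
    have hS := injSeqS_shortExact F
    have hsurj : ∀ (n : ℕ) (a : Fin (n+1) → ι),
        Function.Surjective ((injSeqS F).g.hom.app (op (∏ᶜ (Y ∘ a)).left)) :=
      fun n a => SC.surjective_app_of_subsingleton_ext1 hS _ (h n a 0)
    have hC := shortExact_cechO Y hS hsurj
    have hI : ∀ n, IsZero ((K Y (resOver U (injSeqS F).X₂.obj)).homology (n+1)) :=
      fun n => isZero_cechO_of_injective Y (injSeqS F).X₂ n
    have hQ : ∀ (n : ℕ) (a : Fin (n+1) → ι) (q : ℕ),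
        Subsingleton (Ext.{u} (SC.ZU J (∏ᶜ (Y ∘ a)).left) (injSeqS F).X₃ (q+1)) :=
      fun n a q => SC.subsingleton_ext_of_shortExact₃ hS _ (q+1)
        (subsingleton_ext_injectiveS _ _ q) (h n a (q+1))
    obtain ⟨e⟩ := ih (injSeqS F).X₃ hQ
    have e1 := (hC.δIso (p+1) (p+2) rfl (hI p) (hI (p+1))).addCommGroupIsoToAddEquiv
    have e2 := SC.extShiftEquiv hS P (p+1)
      (subsingleton_ext_injectiveS _ _ p) (subsingleton_ext_injectiveS _ _ (p+1))
    exact ⟨e1.symm.trans (e.trans e2)⟩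

/-- **Čech cohomology is `Ext` out of the object representing `Ȟ⁰`**, for sheaves acyclic on the
members of the family. -/
theorem cechExt (F : Sheaf J AddCommGrpCat.{u})
    (h : ∀ (n : ℕ) (a : Fin (n+1) → ι) (q : ℕ),
      Subsingleton (Ext.{u} (SC.ZU J (∏ᶜ (Y ∘ a)).left) F (q+1))) (p : ℕ) :
    Nonempty (((K Y (resOver U F.obj)).homology p : AddCommGrpCat.{u}) ≃+ Ext.{u} P F p) := by
  cases p with
  | zero => exact ⟨(h0 F).trans Ext.addEquiv₀.symm⟩
  | succ p => exact cechExt_succ Y P h0 h0nat p F h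

end Groth.Agent.LD.CE
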