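import Groth.Agent.Lib.Lead.CechExt.SieveH0
import Groth.Agent.Lib.Lead.CechExt.Gen
import Groth.Agent.Lib.Lead.GSS.Groth2

/-! # The Čech-to-derived-functor spectral sequence of a covering family. -/

universe u
open CategoryTheory Limits Opposite Abelian

namespace Groth.Agent.LD.CE
open Groth.Agent.LD.CH Groth.Agent.LD.GSS

variable {C : Type u} [SmallCategory C]

/-- representable presheaves are projective: higher `Ext` out of `ℤ_V` vanishes for the trivial
topology. -/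
lemma subsingleton_ext_bot (V : C) (F : PB C) (q : ℕ) :
    Subsingleton (Ext.{u} (SC.ZU (⊥ : GrothendieckTopology C) V) F (q+1)) := by
  have key : ∀ ξ : Ext.{u} (SC.ZU (⊥ : GrothendieckTopology C) V) F (q+1), ξ = 0 := by
    intro ξ
    obtain ⟨S, hS, h⟩ := SC.exists_sieve_Hres_eq_zero q F ξ
    rw [GrothendieckTopology.bot_covering] at hS
    have := h (𝟙 V) (by rw [hS]; trivial)
    rwa [SC.Hres_id] at this
  exact ⟨fun a b => by rw [key a, key b]⟩

variable {U : C} [HasFiniteProducts (Over U)] {ι : Type u} (Y : ι → Over U)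

/-- Čech cohomology of a presheaf is `Ext` in the category of presheaves out of `ℤ[S]`. -/
theorem cechExt_bot (Q : PB C) (p : ℕ) :
    Nonempty (((K Y (resOver U Q.obj)).homology p : AddCommGrpCat.{u}) ≃+
      Ext.{u} (ZR (⊥ : GrothendieckTopology C) (SY Y).functor) Q p) :=
  cechExt Y (ZR (⊥ : GrothendieckTopology C) (SY Y).functor) (h0 Y) (h0_nat Y) Q
    (fun n a q => subsingleton_ext_bot _ Q q) p

variable (J : GrothendieckTopology C) (hY : SY Y ∈ J U)

/-- `Hom(ℤ_U, G) ≃ Hom_{PSh}(ℤ[S], G)` for a covering family. -/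
noncomputable def coverHomEquiv (G : Sheaf J AddCommGrpCat.{u}) :
    (SC.ZU J U ⟶ G) ≃ (ZR (⊥ : GrothendieckTopology C) (SY Y).functor ⟶ (toBot J).obj G) :=
  (SC.homEquiv U G).trans
    ((siteH0Equiv Y G hY).symm.toEquiv.trans (h0 Y ((toBot J).obj G)).toEquiv)

lemma coverHomEquiv_comp {G G' : Sheaf J AddCommGrpCat.{u}} (ψ : SC.ZU J U ⟶ G) (g : G ⟶ G') :
    coverHomEquiv Y J hY G' (ψ ≫ g) = coverHomEquiv Y J hY G ψ ≫ (toBot J).map g := by
  change h0 Y ((toBot J).obj G') ((siteH0Equiv Y G' hY).symm (SC.homEquiv U G' (ψ ≫ g))) =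
    h0 Y ((toBot J).obj G) ((siteH0Equiv Y G hY).symm (SC.homEquiv U G ψ)) ≫ (toBot J).map g
  rw [SC.homEquiv_comp]
  have h1 := h0_nat Y ((toBot J).map g) ((siteH0Equiv Y G hY).symm (SC.homEquiv U G ψ))
  refine Eq.trans ?_ h1
  congr 1
  apply (siteH0Equiv Y G' hY).injective
  rw [AddEquiv.apply_symm_apply]
  have h2 := siteH0Equiv_naturality Y hY g ((siteH0Equiv Y G hY).symm (SC.homEquiv U G ψ))
  rw [AddEquiv.apply_symm_apply] at h2
  exact h2.symm

/-- `Hom_{PSh}(ℤ[S], -) ∘ forget ≅ Hom(ℤ_U, -)`. -/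
noncomputable def coverHomIso :
    toBot J ⋙ homF (ZR (⊥ : GrothendieckTopology C) (SY Y).functor) ≅ homF (SC.ZU J U) :=
  homFIsoOfEquiv (toBot J) _ _ (coverHomEquiv Y J hY)
    (fun _ _ ψ g => coverHomEquiv_comp Y J hY ψ g)

end Groth.Agent.LD.CE
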