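import Groth.Agent.Lib.Lead.Cech.SiteH0
import Groth.Agent.Lib.Lead.Cech.SiteLeray
import Groth.Agent.Lib.Lead.CechExt.Free

/-! # `Ȟ⁰` of a presheaf for a family is `Hom` out of the sieve generated by the family. -/

universe u
open CategoryTheory Limits Opposite

namespace Groth.Agent.LD.CE
open Groth.Agent.LD.CH

variable {C : Type u} [SmallCategory C] {U : C} [HasFiniteProducts (Over U)] {ι : Type u}
  (Y : ι → Over U) (P : Cᵒᵖ ⥤ AddCommGrpCat.{u})

/-- the sieve generated by the family. -/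
abbrev SY : Sieve U := Sieve.ofArrows (fun i => (Y i).left) (fun i => (Y i).hom)

omit [HasFiniteProducts (Over U)] in
lemma mem_SY (i : ι) : (SY Y).arrows (Y i).hom := Sieve.ofArrows_mk _ _ i

/-- the diagonal `Y i ⟶ ∏_{Fin 1} Y i`. -/
noncomputable abbrev diag (i : ι) : Y i ⟶ ∏ᶜ (Y ∘ fun _ : Fin 1 => i) :=
  Pi.lift (fun _ => 𝟙 (Y i))

/-- the family attached to a `0`-cochain. -/
noncomputable def famOf (c : Coch Y (resOver U P) 0) (i : ι) : P.obj (op (Y i).left) :=
  P.map (diag Y i).left.op (c (fun _ => i))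

/-- the `0`-cochain attached to a family. -/
noncomputable def cochOfFam (sf : ∀ i, P.obj (op (Y i).left)) : Coch Y (resOver U P) 0 :=
  fun b => P.map (Pi.π (Y ∘ b) 0).left.op (sf (b 0))

lemma famOf_cochOfFam (sf : ∀ i, P.obj (op (Y i).left)) :
    famOf Y P (cochOfFam Y P sf) = sf := by
  funext i
  unfold famOf cochOfFam
  have h : diag Y i ≫ Pi.π (Y ∘ fun _ : Fin 1 => i) 0 = 𝟙 (Y i) := Pi.lift_π _ _
  have e := resO_res P (Pi.π (Y ∘ fun _ : Fin 1 => i) 0) (diag Y i) (𝟙 (Y i)) h (sf i)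
  refine e.trans ?_
  change P.map (𝟙 _) (sf i) = sf i
  rw [P.map_id]
  rfl

lemma cochOfFam_famOf (c : Coch Y (resOver U P) 0) :
    cochOfFam Y P (famOf Y P c) = c := by
  funext b
  unfold famOf cochOfFam
  have hb : b = fun _ => b 0 := by
    funext k; fin_cases k; rfl
  have e1 := resO_res P (diag Y (b 0)) (Pi.π (Y ∘ b) 0) (Pi.π (Y ∘ b) 0 ≫ diag Y (b 0)) rfl
    (c (fun _ => b 0))
  have e2 := resO_congr Y P c hb (𝟙 _) (Pi.π (Y ∘ b) 0 ≫ diag Y (b 0)) (by
    intro k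
    fin_cases k
    simp [diag])
  have e3 : P.map (Over.Hom.left (𝟙 (∏ᶜ (Y ∘ b)))).op (c b) = c b := by
    change P.map (𝟙 _) (c b) = c b
    rw [P.map_id]
    rfl
  exact (e3.symm.trans (e2.trans e1.symm)).symm

/-- a `0`-cocycle gives a compatible family. -/
lemma compatible_of_cocycle (x : (K Y (resOver U P)).X 0)
    (hx : (K Y (resOver U P)).d 0 1 x = 0) :
    Presieve.Arrows.Compatible (P ⋙ forget AddCommGrpCat.{u}) (fun i => (Y i).hom)
      (famOf Y P (coch Y (resOver U P) 0 x)) := by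
  let c := coch Y (resOver U P) 0 x
  intro i j Z gi gj hcomm
  let a : Fin 2 → ι := ![i, j]
  let Z' : Over U := Over.mk (gi ≫ (Y i).hom)
  let gi' : Z' ⟶ Y i := Over.homMk gi rfl
  let gj' : Z' ⟶ Y j := Over.homMk gj hcomm.symm
  let m : Z' ⟶ ∏ᶜ (Y ∘ a) := Pi.lift (fun k => by
    refine Fin.cases gi' (fun k' => ?_) k
    exact (Fin.cases gj' (fun k'' => k''.elim0) k'))
  have hm0 : m ≫ Pi.π (Y ∘ a) 0 = gi' := Pi.lift_π _ _
  have hm1 : m ≫ Pi.π (Y ∘ a) 1 = gj' := Pi.lift_π _ _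
  have h0 := coch_d_zeroO Y P x a
  rw [hx, map_zero] at h0
  have h0' : P.map (face Y a 0).left.op (c (a ∘ Fin.succAbove 0)) =
      P.map (face Y a 1).left.op (c (a ∘ Fin.succAbove 1)) := sub_eq_zero.1 h0.symm
  have e1 : a ∘ Fin.succAbove 0 = fun _ => j := by
    funext k; fin_cases k; rfl
  have e2 : a ∘ Fin.succAbove 1 = fun _ => i := by
    funext k; fin_cases k; rfl
  have hL : P.map m.left.op (P.map (face Y a 0).left.op (c (a ∘ Fin.succAbove 0))) =
      P.map (gj' ≫ diag Y j).left.op (c (fun _ => j)) := by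
    rw [resO_res P _ _ (m ≫ face Y a 0) rfl]
    apply resO_congr Y P c e1
    intro k
    fin_cases k
    simp only [Category.assoc, face_π]
    erw [hm1]
    simp [diag]
    exact (Category.comp_id gj').symm
  have hR : P.map m.left.op (P.map (face Y a 1).left.op (c (a ∘ Fin.succAbove 1))) =
      P.map (gi' ≫ diag Y i).left.op (c (fun _ => i)) := by
    rw [resO_res P _ _ (m ≫ face Y a 1) rfl]
    apply resO_congr Y P c e2
    intro k
    fin_cases k
    simp only [Category.assoc, face_π]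
    erw [hm0]
    simp [diag]
    exact (Category.comp_id gi').symm
  have h2 := congrArg (P.map m.left.op) h0'
  rw [hL, hR] at h2
  change P.map gi'.left.op (P.map (diag Y i).left.op (c _)) =
    P.map gj'.left.op (P.map (diag Y j).left.op (c _))
  rw [resO_res P (diag Y i) gi' (gi' ≫ diag Y i) rfl,
    resO_res P (diag Y j) gj' (gj' ≫ diag Y j) rfl]
  exact h2.symm

/-- a compatible family gives a `0`-cocycle. -/
lemma d_eq_zero_of_compatible (sf : ∀ i, P.obj (op (Y i).left))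
    (h : Presieve.Arrows.Compatible (P ⋙ forget AddCommGrpCat.{u}) (fun i => (Y i).hom) sf) :
    (K Y (resOver U P)).d 0 1 ((coch Y (resOver U P) 0).symm (cochOfFam Y P sf)) = 0 := by
  apply coch_ext
  intro a
  rw [coch_d_zeroO, AddEquiv.apply_symm_apply, map_zero, Pi.zero_apply]
  refine sub_eq_zero.2 ?_
  unfold cochOfFam
  rw [resO_res P _ _ (face Y a 0 ≫ Pi.π (Y ∘ a ∘ Fin.succAbove 0) 0) rfl,
    resO_res P _ _ (face Y a 1 ≫ Pi.π (Y ∘ a ∘ Fin.succAbove 1) 0) rfl]
  have hw0 := Over.w (face Y a 0 ≫ Pi.π (Y ∘ a ∘ Fin.succAbove 0) 0)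
  have hw1 := Over.w (face Y a 1 ≫ Pi.π (Y ∘ a ∘ Fin.succAbove 1) 0)
  exact h _ _ _ _ _ (hw0.trans hw1.symm)

/-- the family attached to a natural transformation out of the sieve. -/
def famOfNat (t : (SY Y).functor ⟶ P ⋙ forget AddCommGrpCat.{u}) (i : ι) :
    P.obj (op (Y i).left) :=
  t.app (op (Y i).left) ⟨(Y i).hom, mem_SY Y i⟩

omit [HasFiniteProducts (Over U)] in
lemma nat_apply (t : (SY Y).functor ⟶ P ⋙ forget AddCommGrpCat.{u}) {W : C} (i : ι)
    (g : W ⟶ (Y i).left) (hg : (SY Y).arrows (g ≫ (Y i).hom)) :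
    t.app (op W) ⟨g ≫ (Y i).hom, hg⟩ = P.map g.op (famOfNat Y P t i) := by
  have := NatTrans.naturality_apply t g.op ⟨(Y i).hom, mem_SY Y i⟩
  exact this

omit [HasFiniteProducts (Over U)] in
lemma compatible_famOfNat (t : (SY Y).functor ⟶ P ⋙ forget AddCommGrpCat.{u}) :
    Presieve.Arrows.Compatible (P ⋙ forget AddCommGrpCat.{u}) (fun i => (Y i).hom)
      (famOfNat Y P t) := by
  intro i j Z gi gj hcomm
  change P.map gi.op (famOfNat Y P t i) = P.map gj.op (famOfNat Y P t j)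
  rw [← nat_apply Y P t i gi ((SY Y).downward_closed (mem_SY Y i) gi),
    ← nat_apply Y P t j gj ((SY Y).downward_closed (mem_SY Y j) gj)]
  congr 1
  exact Subtype.ext hcomm

omit [HasFiniteProducts (Over U)] in
lemma famOfNat_injective {t t' : (SY Y).functor ⟶ P ⋙ forget AddCommGrpCat.{u}}
    (h : famOfNat Y P t = famOfNat Y P t') : t = t' := by
  have key : ∀ (i : ι) (W : C) (g : W ⟶ (Y i).left) (hg : (SY Y).arrows (g ≫ (Y i).hom)),
      t.app (op W) ⟨g ≫ (Y i).hom, hg⟩ = t'.app (op W) ⟨g ≫ (Y i).hom, hg⟩ := by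
    intro i W g hg
    exact (nat_apply Y P t i g _).trans ((congrArg (fun s => P.map g.op (s i)) h).trans
      (nat_apply Y P t' i g _).symm)
  ext W ⟨f, hf⟩
  induction W using Opposite.rec with
  | op W =>
    obtain ⟨W', g, _, ⟨i⟩, rfl⟩ := hf
    exact key i W g _

/-- the natural transformation attached to a compatible family. -/
noncomputable def natOfFam (sf : ∀ i, P.obj (op (Y i).left))
    (h : Presieve.Arrows.Compatible (P ⋙ forget AddCommGrpCat.{u}) (fun i => (Y i).hom) sf) :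
    (SY Y).functor ⟶ P ⋙ forget AddCommGrpCat.{u} where
  app W := ↾fun f => h.familyOfElements.sieveExtend f.1 f.2
  naturality W W' g := by
    ext ⟨f, hf⟩
    exact h.familyOfElements_compatible.sieveExtend.to_sieveCompatible f g.unop hf

omit [HasFiniteProducts (Over U)] in
lemma famOfNat_natOfFam (sf : ∀ i, P.obj (op (Y i).left))
    (h : Presieve.Arrows.Compatible (P ⋙ forget AddCommGrpCat.{u}) (fun i => (Y i).hom) sf) :
    famOfNat Y P (natOfFam Y P sf h) = sf := by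
  funext i
  have e1 := Presieve.extend_agrees h.familyOfElements_compatible (Presieve.ofArrows.mk i)
  exact e1.trans (h.familyOfElements_ofArrows_mk i)

/-- `Hom(S, P) ≃ Ȟ⁰(𝒴, P)` for the sieve `S` generated by the family `𝒴`. -/
noncomputable def sieveH0 :
    ((SY Y).functor ⟶ P ⋙ forget AddCommGrpCat.{u}) ≃ ker0 (K Y (resOver U P)) where
  toFun t := ⟨(coch Y (resOver U P) 0).symm (cochOfFam Y P (famOfNat Y P t)),
    (AddMonoidHom.mem_ker).2 (d_eq_zero_of_compatible Y P _ (compatible_famOfNat Y P t))⟩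
  invFun z := natOfFam Y P (famOf Y P (coch Y (resOver U P) 0 z.1))
    (compatible_of_cocycle Y P z.1 ((AddMonoidHom.mem_ker).1 z.2))
  left_inv t := by
    apply famOfNat_injective
    rw [famOfNat_natOfFam, AddEquiv.apply_symm_apply, famOf_cochOfFam]
  right_inv z := by
    apply Subtype.ext
    change (coch Y (resOver U P) 0).symm (cochOfFam Y P (famOfNat Y P _)) = z.1
    rw [famOfNat_natOfFam, cochOfFam_famOf, AddEquiv.symm_apply_apply]

lemma sieveH0_val (t : (SY Y).functor ⟶ P ⋙ forget AddCommGrpCat.{u}) :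
    coch Y (resOver U P) 0 (sieveH0 Y P t).1 = cochOfFam Y P (famOfNat Y P t) :=
  AddEquiv.apply_symm_apply _ _

variable {J : GrothendieckTopology C}

omit [HasFiniteProducts (Over U)] in
lemma homEquivR_app (R : Cᵒᵖ ⥤ Type u) (F : Sheaf J AddCommGrpCat.{u}) (φ : ZR J R ⟶ F)
    (W : Cᵒᵖ) (r : R.obj W) :
    (homEquivR R F φ).app W r = φ.hom.app W ((homEquivR R _ (𝟙 (ZR J R))).app W r) := by
  have := homEquivR_comp R (𝟙 (ZR J R)) φ
  rw [Category.id_comp] at this
  rw [this]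
  rfl

omit [HasFiniteProducts (Over U)] in
lemma homEquivR_add (R : Cᵒᵖ ⥤ Type u) (F : Sheaf J AddCommGrpCat.{u}) (φ ψ : ZR J R ⟶ F)
    (W : Cᵒᵖ) (r : R.obj W) :
    (homEquivR R F (φ + ψ)).app W r = (homEquivR R F φ).app W r + (homEquivR R F ψ).app W r := by
  rw [homEquivR_app, homEquivR_app R F φ, homEquivR_app R F ψ]
  rfl

/-- `Hom(ℤ[S]^#, F) ≃+ Ȟ⁰(𝒴, F)`. -/
noncomputable def h0Equiv (F : Sheaf J AddCommGrpCat.{u}) :
    (ZR J (SY Y).functor ⟶ F) ≃+ ker0 (K Y (resOver U F.obj)) :=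
  { (homEquivR _ F).trans (sieveH0 Y F.obj) with
    map_add' := fun φ ψ => by
      apply Subtype.ext
      apply (coch Y (resOver U F.obj) 0).injective
      change coch Y (resOver U F.obj) 0 (sieveH0 Y F.obj (homEquivR _ F (φ + ψ))).1 =
        coch Y (resOver U F.obj) 0 ((sieveH0 Y F.obj (homEquivR _ F φ)).1 +
          (sieveH0 Y F.obj (homEquivR _ F ψ)).1)
      refine Eq.trans ?_ ((coch Y (resOver U F.obj) 0).map_add _ _).symm
      rw [sieveH0_val, sieveH0_val, sieveH0_val]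
      funext b
      change F.obj.map _ (famOfNat Y F.obj (homEquivR _ F (φ + ψ)) (b 0)) =
        F.obj.map _ (famOfNat Y F.obj (homEquivR _ F φ) (b 0)) +
          F.obj.map _ (famOfNat Y F.obj (homEquivR _ F ψ) (b 0))
      rw [← map_add]
      congr 1 }

lemma h0Equiv_val (F : Sheaf J AddCommGrpCat.{u}) (φ : ZR J (SY Y).functor ⟶ F) :
    coch Y (resOver U F.obj) 0 (h0Equiv Y F φ).1 =
      cochOfFam Y F.obj (famOfNat Y F.obj (homEquivR _ F φ)) :=
  sieveH0_val Y F.obj _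

/-- `Ȟ⁰(𝒴, F) ≃+ Hom(ℤ[S]^#, F)`. -/
noncomputable def h0 (F : Sheaf J AddCommGrpCat.{u}) :
    ((K Y (resOver U F.obj)).homology 0 : AddCommGrpCat.{u}) ≃+ (ZR J (SY Y).functor ⟶ F) :=
  (h0Iso (K Y (resOver U F.obj))).addCommGroupIsoToAddEquiv.trans (h0Equiv Y F).symm

lemma h0Equiv_comp {F G : Sheaf J AddCommGrpCat.{u}} (ψ : ZR J (SY Y).functor ⟶ F)
    (φ : F ⟶ G) : h0Equiv Y G (ψ ≫ φ) = ker0Map (cmap Y φ) (h0Equiv Y F ψ) := by
  apply Subtype.ext
  apply (coch Y (resOver U G.obj) 0).injective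
  rw [h0Equiv_val]
  funext b
  refine Eq.trans ?_ (coch_map Y ((resOverF U).map φ.hom) 0 (h0Equiv Y F ψ).1 b).symm
  have e := congrFun (h0Equiv_val Y F ψ) b
  refine Eq.trans ?_ (congrArg (fun t => φ.hom.app (op (∏ᶜ (Y ∘ b)).left) t) e).symm
  change G.obj.map _ (famOfNat Y G.obj (homEquivR _ G (ψ ≫ φ)) (b 0)) =
    φ.hom.app _ (F.obj.map _ (famOfNat Y F.obj (homEquivR _ F ψ) (b 0)))
  rw [homEquivR_comp]
  exact (ConcreteCategory.congr_hom (φ.hom.naturality (Pi.π (Y ∘ b) 0).left.op) _).symm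

lemma h0_nat {F G : Sheaf J AddCommGrpCat.{u}} (φ : F ⟶ G)
    (z : ((K Y (resOver U F.obj)).homology 0 : AddCommGrpCat.{u})) :
    h0 Y G (HomologicalComplex.homologyMap (cmap Y φ) 0 z) = h0 Y F z ≫ φ := by
  apply (h0Equiv Y G).injective
  rw [h0Equiv_comp]
  unfold h0
  rw [AddEquiv.trans_apply, AddEquiv.trans_apply, AddEquiv.apply_symm_apply,
    AddEquiv.apply_symm_apply]
  exact ConcreteCategory.congr_hom (h0Iso_naturality (cmap Y φ)) z

end Groth.Agent.LD.CE
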